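import Groth.Agent.An.H871.Basic
import Mathlib.AlgebraicGeometry.Morphisms.ClosedImmersion
import Mathlib.AlgebraicGeometry.Morphisms.Immersion

/-!
# Open and closed immersions on complex points
-/

set_option autoImplicit false

open CategoryTheory AlgebraicGeometry Topology TopologicalSpace Opposite

noncomputable section

namespace Groth.Agent.An.H871.Imm

variable {X Y : Scheme.{0}} [X.Over An.SC] [Y.Over An.SC]

/-! ### Evaluation -/

/-- Evaluation is compatible with restriction. -/
theorem ev_res (x : An.Pts X) {U V : X.Opens} (i : V ≤ U) (h : x.pt ∈ V) (s : Γ(X, U)) :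
    x.ev V h (X.presheaf.map (homOfLE i).op s) = x.ev U (i h) s := by
  unfold An.Pts.ev
  congr 1
  rw [← CommRingCat.comp_apply, Scheme.Hom.map_appLE]

/-- Evaluation as a ring homomorphism. -/
def evHom (x : An.Pts X) (U : X.Opens) (h : x.pt ∈ U) : Γ(X, U) →+* ℂ :=
  (Scheme.ΓSpecIso (CommRingCat.of ℂ)).hom.hom.comp
    (x.1.appLE U ⊤ (An.Pts.top_le_preimage x h)).hom

@[simp] theorem evHom_apply (x : An.Pts X) (U : X.Opens) (h : x.pt ∈ U) (s : Γ(X, U)) :
    evHom x U h s = x.ev U h s := rfl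

/-- Membership in the subbasic sets. -/
theorem mem_basicSet {x : An.Pts X} {U : X.Opens} {s : Γ(X, U)} {V : Set ℂ} :
    x ∈ An.Pts.basicSet U s V ↔ ∃ h : x.pt ∈ U, x.ev U h s ∈ V := Iff.rfl

/-- Restricting the section shrinks the basic set. -/
theorem basicSet_res_subset {U V : X.Opens} (i : V ≤ U) (s : Γ(X, U)) (W : Set ℂ) :
    An.Pts.basicSet V (X.presheaf.map (homOfLE i).op s) W ⊆ An.Pts.basicSet U s W := by
  rintro x ⟨h, hx⟩
  refine ⟨i h, ?_⟩
  rwa [ev_res x i h s] at hx

theorem basicSet_res {U V : X.Opens} (i : V ≤ U) (s : Γ(X, U)) (W : Set ℂ) :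
    An.Pts.basicSet V (X.presheaf.map (homOfLE i).op s) W =
      An.Pts.basicSet U s W ∩ An.Pts.pt ⁻¹' (V : Set X) := by
  ext x
  constructor
  · rintro ⟨h, hx⟩
    refine ⟨⟨i h, ?_⟩, h⟩
    rwa [ev_res x i h s] at hx
  · rintro ⟨⟨h, hx⟩, hV⟩
    refine ⟨hV, ?_⟩
    rw [ev_res x i hV s]
    exact hx

/-- Continuity of the value of a section on the locus of definition. -/
theorem continuousOn_ev (U : X.Opens) (s : Γ(X, U)) :
    Continuous (fun x : {x : An.Pts X // x.pt ∈ U} => x.1.ev U x.2 s) := by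
  rw [continuous_def]
  intro V hV
  rw [isOpen_induced_iff]
  refine ⟨An.Pts.basicSet U s V, An.Pts.isOpen_basicSet U s hV, ?_⟩
  ext x
  simp only [Set.mem_preimage, mem_basicSet]
  exact ⟨fun ⟨_, h⟩ => h, fun h => ⟨x.2, h⟩⟩

/-- Continuity of the value of a global section. -/
theorem continuous_evTop (s : Γ(X, ⊤)) : Continuous (fun x : An.Pts X => x.evTop s) := by
  rw [continuous_def]
  intro V hV
  convert An.Pts.isOpen_basicSet ⊤ s hV using 1
  ext x
  simp only [Set.mem_preimage, mem_basicSet]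
  exact ⟨fun h => ⟨trivial, h⟩, fun ⟨_, h⟩ => h⟩

/-! ### A criterion for inducing maps -/

/-- If sections of `X` are locally pulled back from `Y`, then `X(ℂ) → Y(ℂ)` is inducing. -/
theorem isInducing_map_of_locally (f : X ⟶ Y) [f.IsOver An.SC]
    (H : ∀ (U : X.Opens) (s : Γ(X, U)) (x : X), x ∈ U →
      ∃ (V : Y.Opens) (t : Γ(Y, V)) (_ : f x ∈ V) (i : f ⁻¹ᵁ V ≤ U),
        f.app V t = X.presheaf.map (homOfLE i).op s) :
    IsInducing (An.Pts.map f) := by
  constructor
  apply le_antisymm
  · exact (An.Pts.continuous_map f).le_induced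
  · refine le_generateFrom ?_
    rintro _ ⟨U, s, W, hW, rfl⟩
    rw [@isOpen_iff_forall_mem_open]
    rintro x ⟨hxU, hx⟩
    obtain ⟨V, t, hxV, i, ht⟩ := H U s x.pt hxU
    refine ⟨An.Pts.map f ⁻¹' An.Pts.basicSet V t W, ?_, ?_, ?_⟩
    · rw [An.Pts.preimage_basicSet, ht]
      exact basicSet_res_subset i s W
    · exact isOpen_induced (An.Pts.isOpen_basicSet V t hW)
    · rw [An.Pts.preimage_basicSet, ht]
      refine ⟨hxV, ?_⟩
      rw [ev_res x i hxV s]
      exact hx

/-- A monomorphism is injective on `ℂ`-points. -/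
theorem injective_map_of_mono (f : X ⟶ Y) [f.IsOver An.SC] [Mono f] :
    Function.Injective (An.Pts.map f) := by
  intro x y h
  refine Subtype.ext ?_
  rw [← cancel_mono f]
  exact congrArg Subtype.val h

/-! ### Open immersions -/

theorem isInducing_map_of_isOpenImmersion (f : X ⟶ Y) [f.IsOver An.SC] [IsOpenImmersion f] :
    IsInducing (An.Pts.map f) := by
  refine isInducing_map_of_locally f fun U s x hx => ?_
  refine ⟨f ''ᵁ U, (f.appIso U).inv s, ⟨x, hx, rfl⟩, ?_, ?_⟩
  · rw [f.preimage_image_eq]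
  · rw [← CommRingCat.comp_apply, Scheme.Hom.appIso_inv_app]
    rfl

theorem range_map_of_isOpenImmersion (f : X ⟶ Y) [f.IsOver An.SC] [IsOpenImmersion f] :
    Set.range (An.Pts.map f) = An.Pts.pt ⁻¹' (Set.range f) := by
  ext y
  constructor
  · rintro ⟨x, rfl⟩
    rw [Set.mem_preimage, An.Pts.pt_map]
    exact ⟨_, rfl⟩
  · intro hy
    have hr : Set.range y.1 ⊆ Set.range f := by
      rintro _ ⟨z, rfl⟩
      rw [An.eq_cpt z]
      exact hy
    refine ⟨⟨IsOpenImmersion.lift f y.1 hr, ?_⟩, ?_⟩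
    · rw [← comp_over f An.SC, ← Category.assoc, IsOpenImmersion.lift_fac, y.2]
    · exact Subtype.ext (IsOpenImmersion.lift_fac f y.1 hr)

/-- An open immersion induces an open embedding on `ℂ`-points. -/
theorem isOpenEmbedding_map (f : X ⟶ Y) [f.IsOver An.SC] [IsOpenImmersion f] :
    IsOpenEmbedding (An.Pts.map f) where
  toIsInducing := isInducing_map_of_isOpenImmersion f
  injective := injective_map_of_mono f
  isOpen_range := by
    rw [range_map_of_isOpenImmersion f]
    exact An.Pts.isOpen_preimage_pt f.opensRange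

/-! ### Closed immersions -/

theorem isInducing_map_of_isClosedImmersion (f : X ⟶ Y) [f.IsOver An.SC] [IsClosedImmersion f] :
    IsInducing (An.Pts.map f) := by
  refine isInducing_map_of_locally f fun U s x hx => ?_
  obtain ⟨W, hW, hWU⟩ := f.isClosedEmbedding.isInducing.isOpen_iff.1 U.2
  have hxW : f x ∈ W := by
    have : x ∈ f ⁻¹' W := hWU ▸ hx
    exact this
  obtain ⟨V, hV, hxV, hVW⟩ := exists_isAffineOpen_mem_and_subset (U := ⟨W, hW⟩) hxW
  have i : f ⁻¹ᵁ V ≤ U := by
    intro z hz
    have : z ∈ f ⁻¹' W := hVW hz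
    rw [hWU] at this
    exact this
  obtain ⟨t, ht⟩ := f.app_surjective V hV (X.presheaf.map (homOfLE i).op s)
  exact ⟨V, t, hxV, i, ht⟩

theorem range_map_of_isClosedImmersion (f : X ⟶ Y) [f.IsOver An.SC] [IsClosedImmersion f] :
    Set.range (An.Pts.map f) = An.Pts.pt ⁻¹' (Set.range f) := by
  ext y
  constructor
  · rintro ⟨x, rfl⟩
    rw [Set.mem_preimage, An.Pts.pt_map]
    exact ⟨_, rfl⟩
  · rintro ⟨x, hx⟩
    -- the pullback of the closed immersion along `y` is an isomorphism
    have hsurj : Surjective (Limits.pullback.snd f y.1) := by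
      constructor
      intro z
      obtain ⟨w, -, hw⟩ := Scheme.Pullback.exists_preimage_pullback (f := f) (g := y.1) x z (by
        rw [hx, An.eq_cpt z]; rfl)
      exact ⟨w, hw⟩
    have hiso : IsIso (Limits.pullback.snd f y.1) :=
      isIso_of_isClosedImmersion_of_surjective _
    have hfac : (inv (Limits.pullback.snd f y.1) ≫ Limits.pullback.fst f y.1) ≫ f = y.1 := by
      rw [Category.assoc, Limits.pullback.condition, IsIso.inv_hom_id_assoc]
    refine ⟨⟨inv (Limits.pullback.snd f y.1) ≫ Limits.pullback.fst f y.1, ?_⟩, Subtype.ext hfac⟩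
    rw [← comp_over f An.SC, ← Category.assoc, hfac, y.2]

/-- A closed immersion induces a closed embedding on `ℂ`-points. -/
theorem isClosedEmbedding_map (f : X ⟶ Y) [f.IsOver An.SC] [IsClosedImmersion f] :
    IsClosedEmbedding (An.Pts.map f) where
  toIsInducing := isInducing_map_of_isClosedImmersion f
  injective := injective_map_of_mono f
  isClosed_range := by
    rw [range_map_of_isClosedImmersion f]
    exact f.isClosedEmbedding.isClosed_range.preimage An.Pts.continuous_pt

/-! ### Immersions -/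

theorem locallyOfFiniteType_opens (U : X.Opens) [LocallyOfFiniteType (X ↘ An.SC)] :
    LocallyOfFiniteType (U.toScheme ↘ An.SC) := by
  rw [← Scheme.Opens.ι_comp_over]
  infer_instance

theorem isOver_morphismRestrict (f : X ⟶ Y) [f.IsOver An.SC] (V : Y.Opens) :
    (f ∣_ V).IsOver An.SC := ⟨by
  rw [← Scheme.Opens.ι_comp_over, ← Scheme.Opens.ι_comp_over, ← Category.assoc,
    morphismRestrict_ι, Category.assoc, comp_over]⟩

theorem isOver_liftCoborder (f : X ⟶ Y) [f.IsOver An.SC] [IsImmersion f] :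
    f.liftCoborder.IsOver An.SC := ⟨by
  rw [← Scheme.Opens.ι_comp_over, Scheme.Hom.liftCoborder_ι_assoc, comp_over]⟩

theorem range_map_of_isImmersion (f : X ⟶ Y) [f.IsOver An.SC] [IsImmersion f] :
    Set.range (An.Pts.map f) = An.Pts.pt ⁻¹' (Set.range f) := by
  have h2 : f.liftCoborder.IsOver An.SC := isOver_liftCoborder f
  have hcomp : An.Pts.map f = An.Pts.map f.coborderRange.ι ∘ An.Pts.map f.liftCoborder := by
    funext x
    refine Subtype.ext ?_
    simp
  ext y
  constructor
  · rintro ⟨x, rfl⟩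
    rw [Set.mem_preimage, An.Pts.pt_map]
    exact ⟨_, rfl⟩
  · rintro ⟨x, hx⟩
    rw [hcomp, Set.range_comp, range_map_of_isClosedImmersion f.liftCoborder]
    have hy : y ∈ Set.range (An.Pts.map f.coborderRange.ι) := by
      rw [range_map_of_isOpenImmersion]
      refine ⟨f.liftCoborder x, ?_⟩
      rw [← Scheme.Hom.comp_apply, Scheme.Hom.liftCoborder_ι, hx]
    obtain ⟨z, rfl⟩ := hy
    refine ⟨z, ⟨x, ?_⟩, rfl⟩
    apply f.coborderRange.ι.isOpenEmbedding.injective
    rw [← Scheme.Hom.comp_apply, Scheme.Hom.liftCoborder_ι, hx, An.Pts.pt_map]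

/-- An immersion induces an embedding on `ℂ`-points. -/
theorem isEmbedding_map_of_isImmersion (f : X ⟶ Y) [f.IsOver An.SC] [IsImmersion f] :
    IsEmbedding (An.Pts.map f) := by
  have h2 : f.liftCoborder.IsOver An.SC := isOver_liftCoborder f
  have hcomp : An.Pts.map f = An.Pts.map f.coborderRange.ι ∘ An.Pts.map f.liftCoborder := by
    funext x
    refine Subtype.ext ?_
    simp
  rw [hcomp]
  exact (isOpenEmbedding_map _).isEmbedding.comp (isClosedEmbedding_map _).isEmbedding

theorem isLocallyClosed_range_map_of_isImmersion (f : X ⟶ Y) [f.IsOver An.SC] [IsImmersion f] :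
    IsLocallyClosed (Set.range (An.Pts.map f)) := by
  rw [range_map_of_isImmersion f]
  exact f.isLocallyClosed_range.preimage An.Pts.continuous_pt

/-! ### Opens -/

/-- The `ℂ`-points of an open subscheme `U` are the `ℂ`-points of `X` lying in `U`. -/
theorem range_map_ι (U : X.Opens) :
    Set.range (An.Pts.map U.ι) = An.Pts.pt ⁻¹' (U : Set X) := by
  rw [range_map_of_isOpenImmersion, Scheme.Opens.range_ι]

/-- The subsets `pt ⁻¹' U`, for `U` in an open cover of `X`, cover `X(ℂ)`. -/
theorem exists_mem_of_iSup_eq_top {ι : Type*} (U : ι → X.Opens) (hU : ⨆ i, U i = ⊤)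
    (x : An.Pts X) : ∃ i, x.pt ∈ U i := by
  have : x.pt ∈ ⨆ i, U i := by rw [hU]; trivial
  simpa using this

end Groth.Agent.An.H871.Imm
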