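import Groth.Agent.An.H871.Basic
import Mathlib.AlgebraicGeometry.Noetherian

/-!
# Images on complex points
-/

set_option autoImplicit false

open CategoryTheory AlgebraicGeometry Topology TopologicalSpace Opposite

noncomputable section

namespace Groth.Agent.An.H871.Surj

open Groth.Agent.An.H871.Basic

variable {X Y : Scheme.{0}} [X.Over An.SC] [Y.Over An.SC]

/-- A scheme locally of finite type over `ℂ` is locally noetherian. -/
theorem isLocallyNoetherian (X : Scheme.{0}) [X.Over An.SC] [LocallyOfFiniteType (X ↘ An.SC)] :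
    IsLocallyNoetherian X :=
  LocallyOfFiniteType.isLocallyNoetherian (X ↘ An.SC)

/-- A morphism between schemes locally of finite type over `ℂ` is locally of finite presentation. -/
theorem locallyOfFinitePresentation (f : X ⟶ Y) [f.IsOver An.SC]
    [LocallyOfFiniteType (X ↘ An.SC)] [LocallyOfFiniteType (Y ↘ An.SC)] :
    LocallyOfFinitePresentation f := by
  have := isLocallyNoetherian Y
  have := locallyOfFiniteType_of_isOver f
  infer_instance

variable [LocallyOfFiniteType (X ↘ An.SC)] [LocallyOfFiniteType (Y ↘ An.SC)]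

/-- A `ℂ`-point of `Y` lying in the image of a locally constructible subset `Z` of `X` is the
image of a `ℂ`-point lying in `Z`. -/
theorem exists_map_eq_of_mem_image (f : X ⟶ Y) [f.IsOver An.SC] {Z : Set X}
    (hZ : IsLocallyConstructible Z) (y : An.Pts Y) (hy : y.pt ∈ f '' Z) :
    ∃ x : An.Pts X, x.pt ∈ Z ∧ An.Pts.map f x = y := by
  obtain ⟨z, hz, hzy⟩ := hy
  obtain ⟨Z', h1, h2, h3⟩ := exists_isLocallyClosed_of_isLocallyConstructible hZ hz
  have h4 : IsLocallyClosed (f ⁻¹' {y.pt}) :=
    ((isClosed_pt y).preimage f.continuous).isLocallyClosed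
  obtain ⟨x, hx⟩ := exists_pts_mem_of_isLocallyClosed (h1.inter h4) ⟨z, h2, hzy⟩
  refine ⟨x, h3 hx.1, pt_injective ?_⟩
  rw [An.Pts.pt_map]
  exact hx.2

theorem exists_map_eq_of_mem_range (f : X ⟶ Y) [f.IsOver An.SC] (y : An.Pts Y)
    (hy : y.pt ∈ Set.range f) : ∃ x : An.Pts X, An.Pts.map f x = y := by
  rw [← Set.image_univ] at hy
  obtain ⟨x, -, hx⟩ := exists_map_eq_of_mem_image f .univ y hy
  exact ⟨x, hx⟩

/-- Formation of images of locally constructible sets commutes with taking `ℂ`-points. -/
theorem preimage_image (f : X ⟶ Y) [f.IsOver An.SC] {Z : Set X}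
    (hZ : IsLocallyConstructible Z) :
    (An.Pts.pt ⁻¹' (f '' Z) : Set (An.Pts Y)) = An.Pts.map f '' (An.Pts.pt ⁻¹' Z) := by
  ext y
  constructor
  · intro hy
    obtain ⟨x, hx, hxy⟩ := exists_map_eq_of_mem_image f hZ y hy
    exact ⟨x, hx, hxy⟩
  · rintro ⟨x, hx, rfl⟩
    exact ⟨x.pt, hx, (An.Pts.pt_map f x).symm⟩

theorem range_map (f : X ⟶ Y) [f.IsOver An.SC] :
    Set.range (An.Pts.map f) = An.Pts.pt ⁻¹' (Set.range f) := by
  rw [← Set.image_univ, ← Set.image_univ, preimage_image f .univ, Set.preimage_univ]

/-- Chevalley: the image of a quasi-compact morphism is locally constructible. -/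
theorem isLocallyConstructible_image (f : X ⟶ Y) [f.IsOver An.SC] [QuasiCompact f] {Z : Set X}
    (hZ : IsLocallyConstructible Z) : IsLocallyConstructible (f '' Z) := by
  have := locallyOfFinitePresentation f
  exact f.isLocallyConstructible_image hZ

theorem isLocallyConstructible_range (f : X ⟶ Y) [f.IsOver An.SC] [QuasiCompact f] :
    IsLocallyConstructible (Set.range f) := by
  rw [← Set.image_univ]
  exact isLocallyConstructible_image f .univ

/-- A quasi-compact morphism is surjective iff it is surjective on `ℂ`-points. -/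
theorem surjective_iff (f : X ⟶ Y) [f.IsOver An.SC] [QuasiCompact f] :
    Function.Surjective f ↔ Function.Surjective (An.Pts.map f) := by
  rw [← Set.range_eq_univ, ← Set.range_eq_univ, range_map,
    eq_iff_of_isLocallyConstructible (isLocallyConstructible_range f) .univ, Set.preimage_univ]

end Groth.Agent.An.H871.Surj
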