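import Groth.Prelude.Def_AnPts
import Mathlib.AlgebraicGeometry.Morphisms.FiniteType
import Mathlib.AlgebraicGeometry.Morphisms.Finite
import Mathlib.AlgebraicGeometry.AlgClosed.Basic
import Mathlib.Topology.JacobsonSpace
import Mathlib.Topology.Constructible
import Mathlib.Analysis.Complex.Polynomial.Basic

/-!
# Complex points of schemes locally of finite type over `ℂ`: basic facts

* `isClosed_pt`: the point underlying a `ℂ`-point is closed;
* `pt_injective`: a `ℂ`-point is determined by its underlying point;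
* `exists_pts`: every closed point underlies a `ℂ`-point (Nullstellensatz);
* `range_pt`: the range of `pt` is the set of closed points.
* `exists_pts_mem_of_isLocallyClosed`, `exists_pts_mem_of_isLocallyConstructible` etc.: very density.
-/

set_option autoImplicit false

open CategoryTheory AlgebraicGeometry Topology TopologicalSpace

noncomputable section

namespace Groth.Agent.An.H871.Basic

variable {X Y : Scheme.{0}} [X.Over An.SC] [Y.Over An.SC]

/-- the chosen point of `Spec ℂ` is the closed point. -/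
lemma cpt_eq : An.cpt = IsLocalRing.closedPoint ℂ := (An.eq_cpt _).symm

lemma pt_eq (x : An.Pts X) : x.pt = x.1 (IsLocalRing.closedPoint ℂ) := by
  unfold An.Pts.pt
  rw [cpt_eq]

/-- The point underlying a `ℂ`-point is closed. -/
theorem isClosed_pt [LocallyOfFiniteType (X ↘ An.SC)] (x : An.Pts X) :
    IsClosed ({x.pt} : Set X) := by
  rw [pt_eq]
  exact (pointEquivClosedPoint (K := ℂ) (X ↘ An.SC) ⟨x.1, x.2⟩).2

theorem pt_mem_closedPoints [LocallyOfFiniteType (X ↘ An.SC)] (x : An.Pts X) :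
    x.pt ∈ closedPoints X := isClosed_pt x

/-- A `ℂ`-point is determined by the underlying point. -/
theorem pt_injective [LocallyOfFiniteType (X ↘ An.SC)] :
    Function.Injective (An.Pts.pt : An.Pts X → X) := by
  intro x y h
  rw [pt_eq, pt_eq] at h
  have h' := (pointEquivClosedPoint (K := ℂ) (X ↘ An.SC)).injective
    (a₁ := ⟨x.1, x.2⟩) (a₂ := ⟨y.1, y.2⟩) (Subtype.ext h)
  exact Subtype.ext congr($(h').1)

/-- The `ℂ`-point attached to a closed point. -/
def ofClosed [LocallyOfFiniteType (X ↘ An.SC)] (x : X) (hx : IsClosed ({x} : Set X)) : An.Pts X :=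
  ⟨pointOfClosedPoint (K := ℂ) (X ↘ An.SC) x hx, pointOfClosedPoint_comp _ x hx⟩

@[simp] lemma pt_ofClosed [LocallyOfFiniteType (X ↘ An.SC)] (x : X)
    (hx : IsClosed ({x} : Set X)) : (ofClosed x hx).pt = x :=
  pointOfClosedPoint_apply _ x hx _

/-- Every closed point underlies a `ℂ`-point. -/
theorem exists_pts [LocallyOfFiniteType (X ↘ An.SC)] (x : X) (hx : IsClosed ({x} : Set X)) :
    ∃ p : An.Pts X, p.pt = x :=
  ⟨ofClosed x hx, pt_ofClosed x hx⟩

/-- The underlying points of `ℂ`-points are exactly the closed points. -/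
theorem range_pt [LocallyOfFiniteType (X ↘ An.SC)] :
    Set.range (An.Pts.pt : An.Pts X → X) = closedPoints X := by
  ext x
  constructor
  · rintro ⟨p, rfl⟩; exact isClosed_pt p
  · intro hx; exact exists_pts x hx

theorem jacobsonSpace (X : Scheme.{0}) [X.Over An.SC] [LocallyOfFiniteType (X ↘ An.SC)] :
    JacobsonSpace X :=
  LocallyOfFiniteType.jacobsonSpace (X ↘ An.SC)

/-- `LocallyOfFiniteType` is inherited by morphisms over `Spec ℂ`. -/
theorem locallyOfFiniteType_of_isOver (f : X ⟶ Y) [f.IsOver An.SC]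
    [LocallyOfFiniteType (X ↘ An.SC)] : LocallyOfFiniteType f := by
  have h : f ≫ (Y ↘ An.SC) = X ↘ An.SC := comp_over f An.SC
  have : LocallyOfFiniteType (f ≫ (Y ↘ An.SC)) := by rw [h]; infer_instance
  exact locallyOfFiniteType_of_comp f (Y ↘ An.SC)

/-- A constructible subset is a neighbourhood-wise union of locally closed subsets: every point
of it lies in a locally closed subset of it. -/
theorem exists_isLocallyClosed_of_isConstructible {T : Type*} [TopologicalSpace T] {s : Set T}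
    (hs : IsConstructible s) {x : T} (hx : x ∈ s) :
    ∃ Z : Set T, IsLocallyClosed Z ∧ x ∈ Z ∧ Z ⊆ s := by
  induction s, hs using BooleanSubalgebra.closure_sdiff_sup_induction with
  | isSublattice =>
    exact ⟨fun s hs t ht ↦ ⟨hs.1.union ht.1, hs.2.union ht.2⟩,
      fun s hs t ht ↦ ⟨hs.1.inter ht.1, hs.2.inter_isOpen ht.2 ht.1⟩⟩
  | bot_mem => exact ⟨isOpen_empty, .empty⟩
  | top_mem => exact ⟨isOpen_univ, .univ⟩
  | sdiff U hU V hV =>
    refine ⟨U \ V, ?_, hx, subset_rfl⟩
    rw [Set.sdiff_eq]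
    exact hU.1.isLocallyClosed.inter hV.1.isClosed_compl.isLocallyClosed
  | sup s _ t _ hs' ht' =>
    rcases hx with hx | hx
    · obtain ⟨Z, h1, h2, h3⟩ := hs' hx
      exact ⟨Z, h1, h2, h3.trans Set.subset_union_left⟩
    · obtain ⟨Z, h1, h2, h3⟩ := ht' hx
      exact ⟨Z, h1, h2, h3.trans Set.subset_union_right⟩

theorem exists_isLocallyClosed_of_isLocallyConstructible {T : Type*} [TopologicalSpace T]
    {s : Set T} (hs : IsLocallyConstructible s) {x : T} (hx : x ∈ s) :
    ∃ Z : Set T, IsLocallyClosed Z ∧ x ∈ Z ∧ Z ⊆ s := by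
  obtain ⟨U, hxU, hU, hUs⟩ := hs x
  have hxU' : x ∈ U := mem_of_mem_nhds hxU
  obtain ⟨Z, h1, h2, h3⟩ := exists_isLocallyClosed_of_isConstructible hUs
    (x := ⟨x, hxU'⟩) hx
  refine ⟨Subtype.val '' Z, ?_, ⟨_, h2, rfl⟩, ?_⟩
  · exact h1.image hU.isOpenEmbedding_subtypeVal.isInducing
      (by rw [Subtype.range_coe]; exact hU.isLocallyClosed)
  · rintro _ ⟨z, hz, rfl⟩
    exact h3 hz

/-- Every nonempty locally closed subset of `X` contains the point of a `ℂ`-point. -/
theorem exists_pts_mem_of_isLocallyClosed [LocallyOfFiniteType (X ↘ An.SC)] {Z : Set X}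
    (hZ : IsLocallyClosed Z) (hne : Z.Nonempty) : ∃ p : An.Pts X, p.pt ∈ Z := by
  have := jacobsonSpace X
  obtain ⟨x, hx, hx'⟩ := nonempty_inter_closedPoints hne hZ
  obtain ⟨p, hp⟩ := exists_pts x hx'
  exact ⟨p, hp ▸ hx⟩

theorem exists_pts_mem_of_isOpen [LocallyOfFiniteType (X ↘ An.SC)] {U : Set X}
    (hU : IsOpen U) (hne : U.Nonempty) : ∃ p : An.Pts X, p.pt ∈ U :=
  exists_pts_mem_of_isLocallyClosed hU.isLocallyClosed hne

theorem exists_pts_mem_of_isClosed [LocallyOfFiniteType (X ↘ An.SC)] {U : Set X}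
    (hU : IsClosed U) (hne : U.Nonempty) : ∃ p : An.Pts X, p.pt ∈ U :=
  exists_pts_mem_of_isLocallyClosed hU.isLocallyClosed hne

/-- Every nonempty locally constructible subset of `X` contains the point of a `ℂ`-point. -/
theorem exists_pts_mem_of_isLocallyConstructible [LocallyOfFiniteType (X ↘ An.SC)] {Z : Set X}
    (hZ : IsLocallyConstructible Z) (hne : Z.Nonempty) : ∃ p : An.Pts X, p.pt ∈ Z := by
  obtain ⟨x, hx⟩ := hne
  obtain ⟨Z', h1, h2, h3⟩ := exists_isLocallyClosed_of_isLocallyConstructible hZ hx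
  obtain ⟨p, hp⟩ := exists_pts_mem_of_isLocallyClosed h1 ⟨x, h2⟩
  exact ⟨p, h3 hp⟩

theorem exists_pts_mem_of_isConstructible [LocallyOfFiniteType (X ↘ An.SC)] {Z : Set X}
    (hZ : IsConstructible Z) (hne : Z.Nonempty) : ∃ p : An.Pts X, p.pt ∈ Z :=
  exists_pts_mem_of_isLocallyConstructible hZ.isLocallyConstructible hne

/-- Locally constructible subsets are compared on `ℂ`-points. -/
theorem subset_iff_of_isLocallyConstructible [LocallyOfFiniteType (X ↘ An.SC)] {Z W : Set X}
    (hZ : IsLocallyConstructible Z) (hW : IsLocallyConstructible W) :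
    Z ⊆ W ↔ (An.Pts.pt ⁻¹' Z : Set (An.Pts X)) ⊆ An.Pts.pt ⁻¹' W := by
  refine ⟨fun h => Set.preimage_mono h, fun h => ?_⟩
  by_contra hcon
  rw [Set.not_subset] at hcon
  obtain ⟨x, hx, hx'⟩ := hcon
  obtain ⟨Z', h1, h2, h3⟩ := exists_isLocallyClosed_of_isLocallyConstructible hZ hx
  have hWc : IsLocallyConstructible Wᶜ := fun y => by
    obtain ⟨U, hU, hUo, hUs⟩ := hW y
    exact ⟨U, hU, hUo, hUs.compl⟩
  obtain ⟨W', h1', h2', h3'⟩ := exists_isLocallyClosed_of_isLocallyConstructible hWc hx'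
  obtain ⟨p, hp⟩ := exists_pts_mem_of_isLocallyClosed (h1.inter h1') ⟨x, h2, h2'⟩
  exact h3' hp.2 (h (h3 hp.1))

theorem eq_iff_of_isLocallyConstructible [LocallyOfFiniteType (X ↘ An.SC)] {Z W : Set X}
    (hZ : IsLocallyConstructible Z) (hW : IsLocallyConstructible W) :
    Z = W ↔ (An.Pts.pt ⁻¹' Z : Set (An.Pts X)) = An.Pts.pt ⁻¹' W := by
  rw [Set.Subset.antisymm_iff, Set.Subset.antisymm_iff, subset_iff_of_isLocallyConstructible hZ hW,
    subset_iff_of_isLocallyConstructible hW hZ]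

/-- `X` is nonempty iff it has a `ℂ`-point. -/
theorem nonempty_iff [LocallyOfFiniteType (X ↘ An.SC)] : Nonempty X ↔ Nonempty (An.Pts X) := by
  constructor
  · rintro ⟨x⟩
    obtain ⟨p, -⟩ := exists_pts_mem_of_isOpen (X := X) isOpen_univ ⟨x, trivial⟩
    exact ⟨p⟩
  · rintro ⟨p⟩; exact ⟨p.pt⟩

end Groth.Agent.An.H871.Basic
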